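import Groth.Agent.H10Coh.RelHN.Chain
import Groth.Agent.H10Coh.RelHN.Near
import Groth.Agent.H10Coh.Stab.EllQuot
import Groth.Agent.H06GenSub.CommSpread
import Groth.Agent.H12Pic.Bdd.Exact
import Groth.Agent.H22Alg.RegSheaf
import Groth.Agent.H11Tilde.Local

/-!
# The relative `ℓ`-Harder–Narasimhan filtration over an open subset
-/

set_option autoImplicit false
set_option linter.style.haveILetI false
set_option backward.isDefEq.respectTransparency.types false

noncomputable section

universe u

open CategoryTheory CategoryTheory.Limits AlgebraicGeometry Polynomial StabCat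
open Groth.Agent Groth.Agent.H10Coh.Stab Groth.Agent.H10Coh.OpenSS
open Groth.Agent.H17.QuotSch (str cI)

namespace Groth.Agent.H10Coh.RelHN

attribute [local instance] OpenSS.fibOver

variable {n : ℕ} {S X : Scheme.{u}} (i : X ⟶ CohB1.ProjSpaceOver n S) [IsClosedImmersion i]
  [IsNoetherian S] [IsIntegral S]
  {F : X.Modules} {L : X.Modules} (eL : L ≅ (Scheme.Modules.pullback i).obj (Twist.twistOver n S 1))
  (hF : Coh.IsCoh F) {d : ℕ}

include eL hF in
/-- An `ℓ`-Harder–Narasimhan filtration of the generic fibre spreads out. -/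
theorem exists_open_ellHN (ℓ : ℕ) (hℓ : 1 ≤ ℓ) (hℓd : ℓ ≤ d)
    (h0 : ¬ IsZero (CohIII.fiberMod (str i) F (genericPoint S)))
    (hp : ShStab.IsPure ((str i).fiber (genericPoint S)) (CohIII.fiberMod (str i) F (genericPoint S)) d) :
    ∃ (U : S.Opens) (t : LTSeries (Subobject F)), genericPoint S ∈ U ∧ t.head = ⊥ ∧ t.last = ⊤ ∧
      (∀ (a : Fin t.length) (x : X), (str i).base x ∈ U → FlatMod.IsFlatOverAt (str i) (factor t a) x) ∧
      ∀ s ∈ U, ∃ ts : LTSeries (Subobject (CohIII.fiberMod (str i) F s)),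
        ts.length = t.length ∧
        (∀ (j : Fin (t.length + 1)) (j' : Fin (ts.length + 1)), j.val = j'.val →
          ts j' = imageSubobject ((Scheme.Modules.pullback ((str i).fiberι s)).map (t j).arrow)) ∧
        StabCat.IsHNWith
          (fun G => ShStab.IsEllSemistable (S.residueField s) ((str i).fiber s)
            (CohIII.fiberMod (str i) L s) G d ℓ)
          (fun G P => ∃ Q : ℚ[X], ShStab.IsHilbPoly (S.residueField s) ((str i).fiber s)
            (CohIII.fiberMod (str i) L s) G Q ∧ P = topPart ℓ d Q)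
          d (CohIII.fiberMod (str i) F s) ts := by
  classical
  haveI := H27Weil.isProper_toBase n S
  haveI : IsProper (str i) := inferInstanceAs (IsProper (i ≫ CohB1.ProjSpaceOver.toBase n S))
  haveI : IsLocallyNoetherian X := LocallyOfFiniteType.isLocallyNoetherian (str i)
  haveI : CompactSpace X := QuasiCompact.compactSpace_of_compactSpace (str i)
  haveI : AlgebraicGeometry.IsNoetherian X := {}
  have hLi : PicF.IsInvertible L :=
    H11Tilde.isInvertible_of_iso eL.symm (H11Ample.isInvertible_pullback i (H22Alg.RegSheaf.isInvertible_twistOver 1))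
  let η := genericPoint S
  let g := (str i).fiberι η
  haveI := H06GenSub.CommSpread.flat_fromSpecResidueField_genericPoint S
  haveI := H06GenSub.CommSpread.qc_fromSpecResidueField S η
  haveI : Flat g := MorphismProperty.of_isPullback
    (IsPullback.of_hasPullback (str i) (S.fromSpecResidueField η)).flip inferInstance
  haveI : QuasiCompact g := MorphismProperty.of_isPullback
    (IsPullback.of_hasPullback (str i) (S.fromSpecResidueField η)).flip inferInstance
  haveI : IsPreimmersion g := inferInstance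
  haveI : QuasiSeparated g := inferInstance
  obtain ⟨hpη, hAη⟩ := fibre_ample i eL η
  haveI := hpη
  have hFη : Coh.IsCoh (CohIII.fiberMod (str i) F η) := H17.ConsProp.isCoh_pullback _ hF
  obtain ⟨c, hc⟩ := Stab.exists_ellHN (k := S.residueField η) ℓ hAη hFη h0 hp
  -- the extended chain
  let G : Fin (c.length + 1) → Subobject F := fun j => if j.val = 0 then ⊥ else ext g (c j)
  have hG : ∀ j, im (Scheme.Modules.pullback g) (G j) = c j := fun j => by
    by_cases h : j.val = 0
    · simp only [G, if_pos h, im_bot]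
      exact hc.1.symm.trans (congrArg c.toFun (Fin.ext (by simp [h])))
    · simp only [G, if_neg h, im_ext]
  have hlt : ∀ a : Fin c.length, G a.castSucc < G a.succ := fun a => by
    refine lt_of_le_of_ne ?_ fun h => ne_of_lt (show c a.castSucc < c a.succ from c.step a) ?_
    · by_cases h : a.castSucc.val = 0
      · simp only [G, if_pos h]; exact bot_le
      · simp only [G, if_neg h, if_neg (Nat.succ_ne_zero a.val : ¬ a.succ.val = 0)]
        exact ext_mono g (le_of_lt (c.step a))
    · rw [← hG a.castSucc, ← hG a.succ, h]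
  let t : LTSeries (Subobject F) := ⟨c.length, G, hlt⟩
  have hcohc := fun j => Stab.isCoh_term (k := S.residueField η) hAη hc j
  have hcohG : ∀ j, Coh.IsCoh (G j : X.Modules) := fun j => by
    by_cases h : j.val = 0
    · simp only [G, if_pos h]
      exact LeadDev.isCoh_of_isZero ((isZero_zero X.Modules).of_iso Subobject.botCoeIsoZero)
    · simp only [G, if_neg h]
      exact isCoh_ext g hF _ (H10Coh.isCoh_cokernel _ (hcohc j).1 hFη).1
  have hcohQ : ∀ j, Coh.IsCoh (cokernel (G j).arrow) := fun j => H10Coh.isCoh_cokernel _ (hcohG j).1 hF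
  have hcohf : ∀ a : Fin c.length, Coh.IsCoh (factor t a) := fun a =>
    H10Coh.isCoh_cokernel _ (hcohG a.castSucc).1 (hcohG a.succ)
  have hlen : c.length ≠ 0 := fun h => h0 <| by
    have e : (⊥ : Subobject (CohIII.fiberMod (str i) F η)) = ⊤ :=
      hc.1.symm.trans ((congrArg c.toFun (Fin.ext (by simp [h]))).trans hc.2.1)
    haveI : IsIso (⊥ : Subobject (CohIII.fiberMod (str i) F η)).arrow :=
      (Subobject.isIso_arrow_iff_eq_top _).2 e
    refine (IsZero.iff_id_eq_zero _).2 ?_
    rw [← cancel_epi (⊥ : Subobject (CohIII.fiberMod (str i) F η)).arrow, Subobject.bot_arrow, Limits.zero_comp, Limits.zero_comp]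
  have hlast : t.last = ⊤ := by
    show G (Fin.last c.length) = ⊤
    simp only [G, if_neg (show ¬ (Fin.last c.length).val = 0 from hlen)]
    exact (congrArg (ext g) hc.2.1).trans (ext_top g)
  -- flatness
  have hV : ∀ {M : X.Modules}, Coh.IsCoh M →
      ∃ V : S.Opens, η ∈ V ∧ ∀ x, (str i).base x ∈ V → FlatMod.IsFlatOverAt (str i) M x := fun hM =>
    H05EGA4.GenFlat.exists_open_isFlatOverAt (str i) (H10Coh.isFP_of_isCoh _ hM)
  choose V₁ hV₁η hV₁ using fun j => hV (hcohQ j)
  choose V₂ hV₂η hV₂ using fun a => hV (hcohf a)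
  -- fibres
  let R : ∀ s : S, X.Modules ⥤ ((str i).fiber s).Modules := fun s => Scheme.Modules.pullback ((str i).fiberι s)
  have hRc : ∀ s, PreservesFiniteColimits (R s) := fun s =>
    @PreservesColimitsOfSize.preservesFiniteColimits.{0, 0} _ _ _ _ _
      (Scheme.Modules.pullbackPushforwardAdjunction _).leftAdjoint_preservesColimits
  haveI hRz : ∀ s, (R s).PreservesZeroMorphisms := fun s => inferInstance
  have hmono : ∀ s j, s ∈ V₁ j → Mono ((R s).map (G j).arrow) := fun s j hs => by
    refine H12Pic.Bdd.mono_pullback_map (IsPullback.of_hasPullback (str i) (S.fromSpecResidueField s))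
      (ShortComplex.mk (G j).arrow (cokernel.π _) (cokernel.condition _))
      (ShortComplex.ShortExact.mk' (ShortComplex.exact_cokernel _) inferInstance inferInstance) fun x => ?_
    refine hV₁ j _ ?_
    have hx : (str i).base (((str i).fiberι s).base x) = s :=
      Set.mem_preimage.1 ((Scheme.Hom.range_fiberι (str i) s).le ⟨x, rfl⟩)
    exact hx.symm ▸ hs
  haveI := fun j => hmono η j (hV₁η j)
  have hfac : ∀ a : Fin c.length, Nonempty ((R η).obj (factor t a) ≅ factor c a) := fun a => by
    haveI := hRc η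
    obtain ⟨e⟩ := nonempty_factor_iso (R η) (le_of_lt (hlt a))
    exact ⟨e.symm ≪≫ cokernelOfLEIso (hG a.castSucc) (hG a.succ) _ (le_of_lt (c.step a))⟩
  -- Hilbert polynomials and semistability
  choose P hP using fun a => Stab.exists_hilb_self (k := S.residueField η) hAη (hc.2.2.1 a).2.2.1 (hc.2.2.1 a).1
  have hPη : ∀ a, ShStab.IsHilbPoly (S.residueField η) ((str i).fiber η)
      (CohIII.fiberMod (str i) L η) (CohIII.fiberMod (str i) (factor t a) η) (P a) := fun a =>
    H25Euler.hilbPoly_congr (hfac a).some.symm (hP a)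
  choose W₁ hW₁η hW₁ using fun a => exists_open_hilbPoly (str i) hLi (hcohf a) (V₂ a) (hV₂ a) (hV₂η a) (hPη a)
  choose W₂ hW₂η hW₂ using fun a => exists_open_ell i eL (hcohf a) ℓ hℓ hℓd
    (Stab.isEllSemistable_congr (hfac a).some.symm (hc.2.2.1 a)) (hPη a)
  let U : S.Opens := (Finset.univ.inf V₁ ⊓ Finset.univ.inf V₂) ⊓ (Finset.univ.inf W₁ ⊓ Finset.univ.inf W₂)
  have hmem : ∀ {ι : Type} [Fintype ι] (W : ι → S.Opens) {s : S},
      s ∈ Finset.univ.inf W ↔ ∀ a, s ∈ W a := by
    intro ι _ W s
    rw [← SetLike.mem_coe, TopologicalSpace.Opens.coe_finset_inf]; simp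
  refine ⟨U, t, ⟨⟨(hmem V₁).2 hV₁η, (hmem V₂).2 hV₂η⟩, (hmem W₁).2 hW₁η, (hmem W₂).2 hW₂η⟩,
    (show G 0 = ⊥ from if_pos rfl), hlast, fun a x hx => hV₂ a x ((hmem V₂).1 hx.1.2 a), ?_⟩
  rintro s ⟨⟨hs₁, hs₂⟩, hs₃, hs₄⟩
  haveI := hRc s
  haveI := (fibre_ample i eL s).1
  haveI := fun j => hmono s j ((hmem V₁).1 hs₁ j)
  have hss := fun a => hW₂ a s ((hmem W₂).1 hs₄ a) (hW₁ a s ((hmem W₁).1 hs₃ a))
  have hfs : ∀ a : Fin c.length, Nonempty (cokernel (Subobject.ofLE (im (R s) (G a.castSucc)) (im (R s) (G a.succ))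
      (im_mono (R s) (le_of_lt (hlt a)))) ≅ (R s).obj (factor t a)) :=
    fun a => nonempty_factor_iso (R s) (le_of_lt (hlt a))
  have hlts : ∀ a : Fin c.length, im (R s) (G a.castSucc) < im (R s) (G a.succ) := fun a => by
    refine lt_of_le_of_ne (im_mono (R s) (le_of_lt (hlt a))) fun h => (hss a).2.1 ?_
    refine IsZero.of_iso ?_ (hfs a).some.symm
    haveI : IsIso (Subobject.ofLE (im (R s) (G a.castSucc)) (im (R s) (G a.succ))
        (im_mono (R s) (le_of_lt (hlt a)))) := ⟨Subobject.ofLE _ _ h.ge, by simp, by simp⟩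
    exact isZero_cokernel_of_epi _
  let ts : LTSeries (Subobject (CohIII.fiberMod (str i) F s)) := ⟨c.length, fun j => im (R s) (G j), hlts⟩
  refine ⟨ts, rfl, fun j j' h => congrArg (fun j => im (R s) (G j)) (Fin.ext h.symm), ?_, ?_, fun a => ?_,
    fun a b hab p q hp hq => ?_⟩
  · show im (R s) (G 0) = ⊥
    simp only [G, Fin.val_zero, if_pos, im_bot]
  · show im (R s) (t.last) = ⊤
    rw [hlast, im_top]
  · exact Stab.isEllSemistable_congr (hfs a).some.symm (hss a)
  · obtain ⟨Qp, hQp, rfl⟩ := hp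
    obtain ⟨Qq, hQq, rfl⟩ := hq
    have ea := H25Euler.hilbPoly_unique hQp (H25Euler.hilbPoly_congr (hfs a).some.symm (hW₁ a s ((hmem W₁).1 hs₃ a)))
    have eb := H25Euler.hilbPoly_unique hQq (H25Euler.hilbPoly_congr (hfs b).some.symm (hW₁ b s ((hmem W₁).1 hs₃ b)))
    subst ea eb
    exact redLT_iff.2 (hc.2.2.2 a b hab _ _ (hP a) (hP b))

end Groth.Agent.H10Coh.RelHN
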